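import Groth.Agent.SchDenseNil.Alg
import Groth.Agent.FinFibImage.BaseChange

/-!
Schematic density lifts along a nilpotent ideal of the base with free graded quotients.
-/

set_option autoImplicit false
set_option backward.isDefEq.respectTransparency false
set_option linter.style.haveILetI false
set_option maxHeartbeats 1000000

universe u

open CategoryTheory CategoryTheory.Limits AlgebraicGeometry TopologicalSpace
open scoped TensorProduct

namespace Groth.Agent.SchDenseNil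

variable {A : CommRingCat.{u}}

/-- functions on an open of a scheme over the base -/
noncomputable def sA {X : Scheme.{u}} (p : X ⟶ Spec A) (U : X.Opens) : A ⟶ Γ(X, U) :=
  (Scheme.ΓSpecIso A).inv ≫ p.appLE ⊤ U le_top

theorem sA_comp {X Y : Scheme.{u}} (f : Y ⟶ X) (p : X ⟶ Spec A) (q : Y ⟶ Spec A) (h : f ≫ p = q)
    (U : X.Opens) (V : Y.Opens) (e : V ≤ f ⁻¹ᵁ U) : sA p U ≫ f.appLE U V e = sA q V := by
  subst h
  rw [sA, sA, Category.assoc, Scheme.Hom.appLE_comp_appLE]

theorem appLE_congr_hom {X Y : Scheme.{u}} {f g : Y ⟶ X} (h : f = g) (U : X.Opens) (V : Y.Opens)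
    (e : V ≤ f ⁻¹ᵁ U) (e' : V ≤ g ⁻¹ᵁ U) : f.appLE U V e = g.appLE U V e' := by
  subst h; rfl

variable (J : Ideal A)

/-- the reduction -/
noncomputable abbrev red : Spec (CommRingCat.of (A ⧸ J)) ⟶ Spec A :=
  Spec.map (CommRingCat.ofHom (Ideal.Quotient.mk J))

theorem sA_red_eq_zero {Y : Scheme.{u}} (g : Y ⟶ Spec (CommRingCat.of (A ⧸ J))) (V : Y.Opens) {a : A} (ha : a ∈ J) :
    sA (g ≫ red J) V a = 0 := by
  rw [← sA_comp g (red J) (g ≫ red J) rfl ⊤ V le_top]
  have h : sA (red J) ⊤ = CommRingCat.ofHom (Ideal.Quotient.mk J) ≫ (Scheme.ΓSpecIso _).inv := by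
    rw [sA, Scheme.ΓSpecIso_inv_naturality]
    simp [Scheme.Hom.appLE, Scheme.Hom.appTop]
    rfl
  have h2 : (Ideal.Quotient.mk J) a = 0 := Ideal.Quotient.eq_zero_iff_mem.2 ha
  rw [ConcreteCategory.comp_apply, h, ConcreteCategory.comp_apply]
  simp [h2]

variable {X : Scheme.{u}} (p : X ⟶ Spec A)

/-- the reduction kills the ideal -/
theorem fst_kills (U : X.Opens) (V : (pullback p (red J)).Opens) (e : V ≤ pullback.fst p (red J) ⁻¹ᵁ U)
    {a : A} (ha : a ∈ J) : (pullback.fst p (red J)).appLE U V e (sA p U a) = 0 := by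
  rw [← ConcreteCategory.comp_apply, sA_comp _ p (pullback.snd p (red J) ≫ red J) pullback.condition U V e]
  exact sA_red_eq_zero J _ V ha

theorem fst_kills_smul (U : X.Opens) (V : (pullback p (red J)).Opens) (e : V ≤ pullback.fst p (red J) ⁻¹ᵁ U)
    {m : Γ(X, U)} (hm : letI := (sA p U).hom.toAlgebra; m ∈ (J • ⊤ : Submodule A Γ(X, U))) :
    (pullback.fst p (red J)).appLE U V e m = 0 := by
  letI := (sA p U).hom.toAlgebra
  refine Submodule.smul_induction_on hm (fun a ha x _ => ?_) fun x y hx hy => ?_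
  · rw [Algebra.smul_def, map_mul]
    rw [show (algebraMap A Γ(X, U)) a = sA p U a from rfl, fst_kills J p U V e ha, zero_mul]
  · rw [map_add, hx, hy, add_zero]

/-- the kernel of reduction on an affine open -/
theorem mem_of_fst_eq_zero (W : X.Opens) (hW : IsAffineOpen W) (m : Γ(X, W))
    (hm : (pullback.fst p (red J)).app W m = 0) :
    letI := (sA p W).hom.toAlgebra
    m ∈ (J • ⊤ : Submodule A Γ(X, W)) := by
  letI := (sA p W).hom.toAlgebra
  let W₀ := pullback.fst p (red J) ⁻¹ᵁ W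
  haveI := isIso_pushoutSection_of_isAffineOpen (IsPullback.of_hasPullback p (red J))
    (US := ⊤) (UT := ⊤) (UX := W) (UY := W₀) le_top le_top (by simp [W₀])
    (isAffineOpen_top _) (isAffineOpen_top _) hW
  have HP := (isIso_pushoutSection_iff (IsPullback.of_hasPullback p (red J)) (US := ⊤) (UT := ⊤) (UX := W)
    (UY := W₀) le_top le_top (by simp [W₀])).1 this
  let dA := CommRingCat.ofHom (Ideal.Quotient.mk J)
  have HP' : IsPushout (CommRingCat.ofHom (algebraMap A Γ(X, W))) (CommRingCat.ofHom (algebraMap A (A ⧸ J)))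
      ((pullback.fst p (red J)).appLE W W₀ le_rfl)
      ((Scheme.ΓSpecIso (CommRingCat.of (A ⧸ J))).inv ≫ (pullback.snd p (red J)).appLE ⊤ W₀ le_top) :=
    HP.of_iso (Scheme.ΓSpecIso A) (Iso.refl _) (Scheme.ΓSpecIso (CommRingCat.of (A ⧸ J))) (Iso.refl _)
      (by rw [Iso.refl_hom, Category.comp_id, ← Iso.inv_comp_eq]; rfl)
      (by
        rw [← Iso.inv_comp_eq, ← Category.assoc, ← Iso.eq_comp_inv]
        show _ = CommRingCat.ofHom (Ideal.Quotient.mk J) ≫ _
        rw [Scheme.ΓSpecIso_inv_naturality]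
        simp [Scheme.Hom.appLE, Scheme.Hom.appTop]
        rfl)
      (by simp)
      (by simp)
  have PY := CommRingCat.isPushout_tensorProduct A Γ(X, W) (A ⧸ J)
  let d := PY.desc _ _ HP'.w
  haveI : IsIso d := FinFibImage.isIso_desc_of_isPushout PY _ _ HP'.w HP'
  have hd : d.hom (m ⊗ₜ 1) = 0 := by
    have : d.hom (m ⊗ₜ 1) = (pullback.fst p (red J)).appLE W W₀ le_rfl m :=
      congr($(PY.inl_desc _ _ HP'.w).hom m)
    rw [this, ← Scheme.Hom.app_eq_appLE]
    exact hm
  have h1 : m ⊗ₜ[A] (1 : A ⧸ J) = 0 := (ConcreteCategory.bijective_of_isIso d).1 (hd.trans (map_zero _).symm)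
  have h2 := congrArg (TensorProduct.tensorQuotEquivQuotSMul Γ(X, W) J) h1
  rw [map_zero, ← map_one (Ideal.Quotient.mk J), TensorProduct.tensorQuotEquivQuotSMul_tmul_mk, one_smul,
    Submodule.Quotient.mk_eq_zero] at h2
  exact h2

/-- **Schematic density lifts along a nilpotent ideal of the base with free graded quotients.** -/
theorem schDense [Flat p] (hJ : IsNilpotent J)
    (hfree : ∀ k : ℕ, Module.Free (A ⧸ J) ((A ⧸ J) ⊗[A] ↥(J ^ k)))
    {ι : Type u} (Z : ι → Scheme.{u}) (v : ∀ i, Z i ⟶ X) [∀ i, Flat (v i ≫ p)]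
    (h0 : ∀ (V : (pullback p (red J)).Opens) (t : Γ(pullback p (red J), V)),
      (∀ i, (pullback.map (v i ≫ p) (red J) p (red J) (v i) (𝟙 _) (𝟙 _)
        (Category.comp_id _) ((Category.comp_id _).trans (Category.id_comp _).symm)).app V t = 0) → t = 0)
    (V : X.Opens) (t : Γ(X, V)) (ht : ∀ i, (v i).app V t = 0) : t = 0 := by
  refine X.IsSheaf.section_ext fun x hx => ?_
  obtain ⟨W, hW, hxW, hWV⟩ := exists_isAffineOpen_mem_and_subset (X := X) (x := x) (U := V) hx
  refine ⟨W, hWV, hxW, ?_⟩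
  rw [map_zero]
  let m : Γ(X, W) := X.presheaf.map (homOfLE hWV).op t
  show m = 0
  letI := (sA p W).hom.toAlgebra
  let Idx := Σ i, {U : (Z i).Opens // IsAffineOpen U ∧ U ≤ v i ⁻¹ᵁ W}
  letI : ∀ j : Idx, Algebra A Γ(Z j.1, j.2.1) := fun j => (sA (v j.1 ≫ p) j.2.1).hom.toAlgebra
  haveI : ∀ j : Idx, Module.Flat A Γ(Z j.1, j.2.1) := fun j => by
    have h1 := (v j.1 ≫ p).flat_appLE (isAffineOpen_top _) j.2.2.1 (le_top : j.2.1 ≤ (v j.1 ≫ p) ⁻¹ᵁ ⊤)
    exact (RingHom.Flat.comp (RingHom.Flat.of_bijective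
      (Scheme.ΓSpecIso A).symm.commRingCatIsoToRingEquiv.bijective) h1 : (sA (v j.1 ≫ p) j.2.1).hom.Flat)
  let r : ∀ j : Idx, Γ(X, W) →ₗ[A] Γ(Z j.1, j.2.1) := fun j =>
    (AlgHom.mk ((v j.1).appLE W j.2.1 j.2.2.2).hom
      fun a => congr($(sA_comp (v j.1) p (v j.1 ≫ p) rfl W j.2.1 j.2.2.2).hom a)).toLinearMap
  refine eq_zero J hJ hfree r (fun n hn => ?_) m (fun j => ?_)
  · refine mem_of_fst_eq_zero J p W hW n (h0 _ _ fun i => ?_)
    let π := pullback.map (v i ≫ p) (red J) p (red J) (v i) (𝟙 _) (𝟙 _)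
        (Category.comp_id _) ((Category.comp_id _).trans (Category.id_comp _).symm)
    let q := pullback.fst (v i ≫ p) (red J)
    have hπ : π ≫ pullback.fst p (red J) = q ≫ v i := pullback.lift_fst _ _ _
    show π.app _ ((pullback.fst p (red J)).app W n) = 0
    refine (pullback (v i ≫ p) (red J)).IsSheaf.section_ext fun z hz => ?_
    have hz' : v i (q z) ∈ W := by
      have : (π ≫ pullback.fst p (red J)) z ∈ W := hz
      rwa [hπ] at this
    obtain ⟨U, hU, hzU, hUW⟩ := exists_isAffineOpen_mem_and_subset (X := Z i) (x := q z) (U := v i ⁻¹ᵁ W) hz'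
    have e : q ⁻¹ᵁ U ≤ π ⁻¹ᵁ pullback.fst p (red J) ⁻¹ᵁ W := fun y hy => by
      show (π ≫ pullback.fst p (red J)) y ∈ W
      rw [hπ]
      exact hUW hy
    refine ⟨q ⁻¹ᵁ U, e, hzU, ?_⟩
    rw [map_zero]
    have h1 : (pullback.fst p (red J)).app W ≫ π.app _ ≫ (pullback (v i ≫ p) (red J)).presheaf.map (homOfLE e).op =
        (v i).appLE W U hUW ≫ q.appLE U (q ⁻¹ᵁ U) le_rfl := by
      rw [← Category.assoc, ← Scheme.Hom.comp_app, Scheme.Hom.appLE_comp_appLE]
      exact appLE_congr_hom hπ _ _ _ _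
    exact (congr($(h1).hom n)).trans (fst_kills_smul J (v i ≫ p) U _ le_rfl (hn ⟨i, U, hU, hUW⟩))
  · show (v j.1).appLE W j.2.1 j.2.2.2 m = 0
    have h1 : X.presheaf.map (homOfLE hWV).op ≫ (v j.1).appLE W j.2.1 j.2.2.2 =
        (v j.1).app V ≫ (Z j.1).presheaf.map (homOfLE (j.2.2.2.trans ((v j.1).preimage_mono hWV))).op := by
      rw [Scheme.Hom.map_appLE]
      rfl
    exact (congr($(h1).hom t)).trans (by
      show (Z j.1).presheaf.map _ ((v j.1).app V t) = 0
      rw [ht, map_zero])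

end Groth.Agent.SchDenseNil
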