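import Mathlib

/-!
Joint injectivity from the reduction modulo a nilpotent ideal with free graded quotients.
-/

set_option autoImplicit false
set_option maxHeartbeats 1000000

universe u v

open TensorProduct

namespace Groth.Agent.SchDenseNil

variable {A : Type u} [CommRing A] (I : Ideal A) (J : Ideal A) {M : Type u} [AddCommGroup M] [Module A M]

/-- the multiplication map -/
noncomputable def mu : I ⊗[A] M →ₗ[A] M :=
  (TensorProduct.lid A M).toLinearMap ∘ₗ LinearMap.rTensor M I.subtype

@[simp] theorem mu_tmul (a : I) (m : M) : mu I (a ⊗ₜ[A] m) = (a : A) • m := by simp [mu]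

theorem mu_injective [Module.Flat A M] : Function.Injective (mu I (M := M)) :=
  (TensorProduct.lid A M).injective.comp
    (Module.Flat.rTensor_preserves_injective_linearMap _ Subtype.val_injective)

theorem range_mu : LinearMap.range (mu I (M := M)) = I • ⊤ := by
  apply le_antisymm
  · rintro _ ⟨z, rfl⟩
    induction z with
    | zero => simp
    | tmul a m => rw [mu_tmul]; exact Submodule.smul_mem_smul a.2 trivial
    | add x y hx hy => rw [map_add]; exact add_mem hx hy
  · rw [Submodule.smul_le]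
    exact fun a ha m _ => ⟨⟨a, ha⟩ ⊗ₜ m, by simp⟩

variable {ι : Type v} {N : ι → Type u} [∀ i, AddCommGroup (N i)] [∀ i, Module A (N i)]

/-- one step of the filtration -/
theorem step [Module.Free (A ⧸ J) ((A ⧸ J) ⊗[A] I)] [∀ i, Module.Flat A (N i)] (r : ∀ i, M →ₗ[A] N i)
    (h0 : ∀ m : M, (∀ i, r i m ∈ (J • ⊤ : Submodule A (N i))) → m ∈ (J • ⊤ : Submodule A M))
    (x : M) (hx : x ∈ (I • ⊤ : Submodule A M)) (hr : ∀ i, r i x = 0) :
    x ∈ ((J * I) • ⊤ : Submodule A M) := by
  classical
  let b := Module.Free.chooseBasis (A ⧸ J) ((A ⧸ J) ⊗[A] I)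
  let R := b.repr.toLinearMap.restrictScalars A
  let φ : _ → ((A ⧸ J) ⊗[A] I →ₗ[A] A ⧸ J) := fun c => (Finsupp.lapply c) ∘ₗ R
  let q : I →ₗ[A] (A ⧸ J) ⊗[A] I := TensorProduct.mk A (A ⧸ J) I 1
  rw [← range_mu] at hx
  obtain ⟨w, rfl⟩ := hx
  have h0' : ∀ z : (A ⧸ J) ⊗[A] M, (∀ i, (r i).lTensor (A ⧸ J) z = 0) → z = 0 := by
    intro z hz
    obtain ⟨m, rfl⟩ : ∃ m : M, (1 : A ⧸ J) ⊗ₜ m = z := by
      obtain ⟨m, hm⟩ := Submodule.Quotient.mk_surjective _ (TensorProduct.quotTensorEquivQuotSMul M J z)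
      exact ⟨m, by rw [← TensorProduct.quotTensorEquivQuotSMul_symm_mk, hm, LinearEquiv.symm_apply_apply]⟩
    have hm : m ∈ (J • ⊤ : Submodule A M) := h0 m fun i => by
      have := congrArg (TensorProduct.quotTensorEquivQuotSMul (N i) J) (hz i)
      rwa [LinearMap.lTensor_tmul, TensorProduct.quotTensorEquivQuotSMul_mk_one_tmul, map_zero,
        Submodule.Quotient.mk_eq_zero] at this
    apply (TensorProduct.quotTensorEquivQuotSMul M J).injective
    rwa [TensorProduct.quotTensorEquivQuotSMul_mk_one_tmul, map_zero, Submodule.Quotient.mk_eq_zero]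
  have hψ : ∀ c, (φ c ∘ₗ q).rTensor M w = 0 := by
    refine fun c => h0' _ fun i => ?_
    have h1 : (r i).lTensor I w = 0 := by
      apply mu_injective I
      have : ∀ z, mu I ((r i).lTensor I z) = r i (mu I z) := fun z => by
        induction z with
        | zero => simp
        | tmul a m => simp
        | add x y hx hy => simp [hx, hy]
      rw [this, hr i, map_zero]
    rw [← LinearMap.comp_apply, LinearMap.lTensor_comp_rTensor, ← LinearMap.rTensor_comp_lTensor,
      LinearMap.comp_apply, h1, map_zero]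
  have hq : q.rTensor M w = 0 := by
    let F := (TensorProduct.finsuppLeft A A (A ⧸ J) M (Module.Free.ChooseBasisIndex (A ⧸ J) ((A ⧸ J) ⊗[A] I))).toLinearMap
      ∘ₗ R.rTensor M
    have hF : ∀ c z, F z c = (φ c).rTensor M z := fun c z => by
      induction z with
      | zero => simp
      | tmul a m => simp [F, φ, TensorProduct.finsuppLeft_apply_tmul_apply]
      | add x y hx hy => simp [hx, hy]
    have hinj : Function.Injective F := by
      let e := ((b.repr.restrictScalars A).rTensor M) ≪≫ₗ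
        TensorProduct.finsuppLeft A A (A ⧸ J) M (Module.Free.ChooseBasisIndex (A ⧸ J) ((A ⧸ J) ⊗[A] I))
      exact e.injective
    apply hinj
    rw [map_zero]
    refine Finsupp.ext fun c => ?_
    rw [hF, ← LinearMap.comp_apply, ← LinearMap.rTensor_comp, hψ c]
    rfl
  have h1 : (1 : A ⧸ J) ⊗ₜ[A] w = 0 := by
    have e : ∀ w, TensorProduct.assoc A (A ⧸ J) I M (q.rTensor M w) = (1 : A ⧸ J) ⊗ₜ[A] w := fun w => by
      induction w with
      | zero => simp
      | tmul a m => simp [q]
      | add x y hx hy => simp [hx, hy, TensorProduct.tmul_add]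
    rw [← e, hq, map_zero]
  have h2 : w ∈ (J • ⊤ : Submodule A (I ⊗[A] M)) := by
    rw [← Submodule.Quotient.mk_eq_zero, ← TensorProduct.quotTensorEquivQuotSMul_mk_one_tmul, h1, map_zero]
  have h3 := Submodule.mem_map_of_mem (f := mu I (M := M)) h2
  rw [Submodule.map_smul'', Submodule.map_top, range_mu, ← Submodule.smul_assoc, smul_eq_mul] at h3
  exact h3

/-- **Joint injectivity lifts along a nilpotent ideal with free graded quotients.** -/
theorem eq_zero (hJ : IsNilpotent J) (hfree : ∀ k : ℕ, Module.Free (A ⧸ J) ((A ⧸ J) ⊗[A] ↥(J ^ k)))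
    [∀ i, Module.Flat A (N i)] (r : ∀ i, M →ₗ[A] N i)
    (h0 : ∀ m : M, (∀ i, r i m ∈ (J • ⊤ : Submodule A (N i))) → m ∈ (J • ⊤ : Submodule A M))
    (x : M) (hr : ∀ i, r i x = 0) : x = 0 := by
  have key : ∀ k, x ∈ ((J ^ k) • ⊤ : Submodule A M) := by
    intro k
    induction k with
    | zero => simp
    | succ k ih =>
      haveI := hfree k
      rw [pow_succ']
      exact step (J ^ k) J r h0 x ih hr
  obtain ⟨n, hn⟩ := hJ
  simpa [hn] using key n

end Groth.Agent.SchDenseNil
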